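import Mathlib

/-! The gcd of `∏ (ℓ^(2a) - 1)` over large primes; unipotent kernels. -/

set_option autoImplicit false

open Finset

namespace SSRedGcd

/-- Exponents. -/
def e (g p : ℕ) : ℕ :=
  if p = 2 then 3 * g + padicValNat 2 g.factorial
  else 2 * g / (p - 1) + ∑ i ∈ Icc 1 (2 * g / (p - 1)), padicValNat p i

/-- The product. -/
abbrev P (g ℓ : ℕ) : ℕ := ∏ a ∈ Icc 1 g, (ℓ ^ (2 * a) - 1)

theorem val_prod (p : ℕ) [Fact p.Prime] (s : Finset ℕ) (f : ℕ → ℕ) (h : ∀ a ∈ s, f a ≠ 0) :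
    padicValNat p (∏ a ∈ s, f a) = ∑ a ∈ s, padicValNat p (f a) := by
  induction s using Finset.induction with
  | empty => simp
  | insert a s ha ih =>
    rw [prod_insert ha, sum_insert ha, padicValNat.mul (h a (mem_insert_self a s))
      (prod_ne_zero_iff.2 fun b hb => h b (mem_insert_of_mem hb)),
      ih fun b hb => h b (mem_insert_of_mem hb)]

theorem factor_ne_zero {ℓ a : ℕ} (hℓ : 1 < ℓ) (ha : a ≠ 0) : ℓ ^ (2 * a) - 1 ≠ 0 := by
  have : 1 < ℓ ^ (2 * a) := Nat.one_lt_pow (by omega) hℓ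
  omega

theorem P_ne_zero {g ℓ : ℕ} (hℓ : 1 < ℓ) : P g ℓ ≠ 0 :=
  prod_ne_zero_iff.2 fun a ha => factor_ne_zero hℓ (by simp only [mem_Icc] at ha; omega)

theorem val_two (g ℓ : ℕ) (hℓ : 1 < ℓ) (ho : ¬ 2 ∣ ℓ) :
    padicValNat 2 (P g ℓ) = g * padicValNat 2 (ℓ ^ 2 - 1) + padicValNat 2 g.factorial := by
  rw [val_prod 2 _ _ fun a ha => factor_ne_zero hℓ (by simp only [mem_Icc] at ha; omega),
    show g.factorial = ∏ x ∈ Icc 1 g, x by rw [← prod_Ico_id_eq_factorial]; exact prod_congr (by ext; simp) fun _ _ => rfl, val_prod 2 _ _ fun a ha => by simp only [mem_Icc] at ha; omega]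
  have key : ∀ a ∈ Icc 1 g, padicValNat 2 (ℓ ^ (2 * a) - 1) = padicValNat 2 (ℓ ^ 2 - 1) + padicValNat 2 a := by
    intro a ha
    simp only [mem_Icc] at ha
    have h1 := padicValNat.pow_two_sub_one hℓ ho (n := 2 * a) (by omega) (even_two_mul a)
    have h2 := padicValNat.pow_two_sub_one hℓ ho (n := 2) (by omega) even_two
    have h3 : padicValNat 2 (2 * a) = padicValNat 2 2 + padicValNat 2 a :=
      padicValNat.mul (by omega) (by omega)
    omega
  rw [sum_congr rfl key, sum_add_distrib, sum_const, Nat.card_Icc, smul_eq_mul]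
  simp

theorem filter_eq (g p : ℕ) (hp : 3 ≤ p) (ho : Odd p) :
    (Icc 1 g).filter (fun a => (p - 1) ∣ 2 * a) =
      (Icc 1 (2 * g / (p - 1))).image (fun i => i * ((p - 1) / 2)) := by
  obtain ⟨q, rfl⟩ := ho
  have hq : 0 < q := by omega
  simp only [Nat.add_sub_cancel, Nat.mul_div_cancel_left _ (show 0 < 2 by omega),
    Nat.mul_div_mul_left _ _ (show 0 < 2 by omega)]
  ext a
  simp only [mem_filter, mem_Icc, mem_image, Nat.mul_dvd_mul_iff_left (show 0 < 2 by omega)]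
  constructor
  · rintro ⟨⟨h1, h2⟩, i, rfl⟩
    refine ⟨i, ⟨?_, ?_⟩, by ring⟩
    · exact Nat.pos_of_ne_zero fun h => by simp [h] at h1
    · exact (Nat.le_div_iff_mul_le hq).2 (by rw [mul_comm]; exact h2)
  · rintro ⟨i, ⟨h1, h2⟩, rfl⟩
    exact ⟨⟨Nat.one_le_iff_ne_zero.2 (Nat.mul_ne_zero (by omega) (by omega)),
      (Nat.le_div_iff_mul_le hq).1 h2⟩, dvd_mul_left _ _⟩

theorem val_odd (g p ℓ : ℕ) [hp : Fact p.Prime] (ho : Odd p) (hp3 : 3 ≤ p) (hℓ : 1 < ℓ)
    (hd : ¬ p ∣ ℓ) :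
    padicValNat p (P g ℓ) =
      (∑ a ∈ (Icc 1 g).filter (fun a => ¬ (p - 1) ∣ 2 * a), padicValNat p (ℓ ^ (2 * a) - 1)) +
      ((2 * g / (p - 1)) * padicValNat p (ℓ ^ (p - 1) - 1) +
        ∑ i ∈ Icc 1 (2 * g / (p - 1)), padicValNat p i) := by
  rw [val_prod p _ _ fun a ha => factor_ne_zero hℓ (by simp only [mem_Icc] at ha; omega),
    ← sum_filter_not_add_sum_filter _ (fun a => (p - 1) ∣ 2 * a), filter_eq g p hp3 ho,
    sum_image]
  · congr 1
    have hx : 1 < ℓ ^ (p - 1) := Nat.one_lt_pow (by omega) hℓ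
    have key : ∀ i ∈ Icc 1 (2 * g / (p - 1)), padicValNat p (ℓ ^ (2 * (i * ((p - 1) / 2))) - 1) =
        padicValNat p (ℓ ^ (p - 1) - 1) + padicValNat p i := by
      intro i hi
      simp only [mem_Icc] at hi
      have h2 : 2 * (i * ((p - 1) / 2)) = (p - 1) * i := by
        obtain ⟨q, rfl⟩ := ho
        simp; ring
      have hmod : p ∣ ℓ ^ (p - 1) - 1 := by
        rw [← Nat.modEq_iff_dvd' hx.le]
        have := Nat.ModEq.pow_totient ((hp.out.coprime_iff_not_dvd.2 hd).symm)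
        rw [Nat.totient_prime hp.out] at this
        exact this.symm
      rw [h2, pow_mul]
      have := padicValNat.pow_sub_pow ho hx hmod
        (fun h => hd (hp.out.dvd_of_dvd_pow h)) (n := i) (by omega)
      simpa using this
    rw [sum_congr rfl key, sum_add_distrib, sum_const, Nat.card_Icc, smul_eq_mul]
    simp
  · intro i _ j _ h
    exact Nat.eq_of_mul_eq_mul_right (by omega) h

theorem e_le (g B p ℓ : ℕ) (hB : 2 * g + 1 ≤ B) (hp : p.Prime) (hℓ : ℓ.Prime) (hℓB : B < ℓ) :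
    e g p ≤ padicValNat p (P g ℓ) := by
  have : Fact p.Prime := ⟨hp⟩
  rw [e]
  split_ifs with h2
  · subst h2
    rcases Nat.eq_zero_or_pos g with rfl | hg
    · simp
    have ho : ¬ 2 ∣ ℓ := fun h => by
      have := (Nat.prime_dvd_prime_iff_eq Nat.prime_two hℓ).1 h
      omega
    rw [val_two g ℓ hℓ.one_lt ho]
    have h8 : 8 ∣ ℓ ^ 2 - 1 := Nat.eight_dvd_sq_sub_one_of_odd (Nat.odd_iff.2 (by omega))
    have := (padicValNat_dvd_iff_le (p := 2) (factor_ne_zero (a := 1) hℓ.one_lt one_ne_zero)).1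
      (show 2 ^ 3 ∣ ℓ ^ (2 * 1) - 1 from h8)
    simp only [mul_one] at this
    nlinarith
  · have hp3 : 3 ≤ p := by have := hp.two_le; omega
    rcases Nat.eq_zero_or_pos (2 * g / (p - 1)) with h0 | h0
    · simp [h0]
    have hd : ¬ p ∣ ℓ := fun h => by
      have := (Nat.prime_dvd_prime_iff_eq hp hℓ).1 h
      have h1 := (Nat.le_div_iff_mul_le (show 0 < p - 1 by omega)).1 h0
      omega
    rw [val_odd g p ℓ (hp.odd_of_ne_two h2) hp3 hℓ.one_lt hd]
    have h1 : 1 ≤ padicValNat p (ℓ ^ (p - 1) - 1) := by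
      have hx : 1 < ℓ ^ (p - 1) := Nat.one_lt_pow (by omega) hℓ.one_lt
      refine one_le_padicValNat_of_dvd (by omega) ?_
      rw [← Nat.modEq_iff_dvd' hx.le]
      have := Nat.ModEq.pow_totient ((hp.coprime_iff_not_dvd.2 hd).symm)
      rw [Nat.totient_prime hp] at this
      exact this.symm
    have := Nat.le_mul_of_pos_right (2 * g / (p - 1)) h1
    omega

theorem exists_sharp (g B p : ℕ) (hp : p.Prime) :
    ∃ ℓ, ℓ.Prime ∧ B < ℓ ∧ padicValNat p (P g ℓ) = e g p := by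
  have : Fact p.Prime := ⟨hp⟩
  by_cases h2 : p = 2
  · subst h2
    have : NeZero (16 : ℕ) := ⟨by norm_num⟩
    have hu : IsUnit ((3 : ℕ) : ZMod 16) := (ZMod.isUnit_iff_coprime 3 16).2 (by norm_num)
    obtain ⟨ℓ, hℓB, hℓ, hmod⟩ := Nat.forall_exists_prime_gt_and_eq_mod hu B
    refine ⟨ℓ, hℓ, hℓB, ?_⟩
    rw [ZMod.natCast_eq_natCast_iff'] at hmod
    rw [e, if_pos rfl, val_two g ℓ hℓ.one_lt (by omega)]
    obtain ⟨q, rfl⟩ : ∃ q, ℓ = 16 * q + 3 := ⟨ℓ / 16, by omega⟩
    have hv : padicValNat 2 ((16 * q + 3) ^ 2 - 1) = 3 := by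
      rw [show (16 * q + 3) ^ 2 - 1 = 2 ^ 3 * (2 * (16 * q ^ 2 + 6 * q) + 1) by
        rw [show (16 * q + 3) ^ 2 = 2 ^ 3 * (2 * (16 * q ^ 2 + 6 * q) + 1) + 1 by ring]; omega]
      rw [padicValNat.mul (by norm_num) (by omega), padicValNat.prime_pow,
        padicValNat.eq_zero_of_not_dvd (by omega)]
    rw [hv, mul_comm]
  · have ho := hp.odd_of_ne_two h2
    have hp3 : 3 ≤ p := by have := hp.two_le; omega
    have hcyc := ZMod.isCyclic_units_of_prime_pow p hp h2 2
    obtain ⟨u, hu⟩ := IsCyclic.exists_ofOrder_eq_natCard (α := (ZMod (p ^ 2))ˣ)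
    have : NeZero (p ^ 2) := ⟨pow_ne_zero _ hp.ne_zero⟩
    rw [Nat.card_eq_fintype_card, ZMod.card_units_eq_totient,
      Nat.totient_prime_pow hp (by norm_num)] at hu
    obtain ⟨ℓ, hℓB, hℓ, hmod⟩ := Nat.forall_exists_prime_gt_and_eq_mod u.isUnit B
    refine ⟨ℓ, hℓ, hℓB, ?_⟩
    have hord : ∀ k, (p ^ 2 ∣ ℓ ^ k - 1 ↔ p * (p - 1) ∣ k) := by
      intro k
      rw [show p * (p - 1) = orderOf u by rw [hu]; simp, orderOf_dvd_iff_pow_eq_one,
        ← Nat.modEq_iff_dvd' (Nat.one_le_pow _ _ hℓ.pos), ← ZMod.natCast_eq_natCast_iff,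
        ← Units.val_inj, Units.val_pow_eq_pow_val, Units.val_one, ← hmod]
      simp [eq_comm]
    have hd : ¬ p ∣ ℓ := by
      intro h
      obtain rfl := (Nat.prime_dvd_prime_iff_eq hp hℓ).1 h
      have : IsUnit ((p : ℕ) : ZMod (p ^ 2)) := hmod ▸ u.isUnit
      rw [ZMod.isUnit_iff_coprime, Nat.coprime_pow_right_iff (by norm_num)] at this
      exact hp.one_lt.ne' (Nat.coprime_self p |>.1 this)
    have hv : padicValNat p (ℓ ^ (p - 1) - 1) = 1 := by
      have hx : 1 < ℓ ^ (p - 1) := Nat.one_lt_pow (by omega) hℓ.one_lt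
      refine le_antisymm ?_ (one_le_padicValNat_of_dvd (by omega) ?_)
      · by_contra hc
        have hh := (hord (p - 1)).1 ((padicValNat_dvd_iff_le (by omega)).2 (by omega))
        have := Nat.le_of_dvd (by omega) hh
        nlinarith [show 1 ≤ p - 1 by omega]
      · rw [← Nat.modEq_iff_dvd' hx.le]
        have := Nat.ModEq.pow_totient ((hp.coprime_iff_not_dvd.2 hd).symm)
        rw [Nat.totient_prime hp] at this
        exact this.symm
    rw [val_odd g p ℓ ho hp3 hℓ.one_lt hd, hv, mul_one, e, if_neg h2, sum_eq_zero, zero_add]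
    intro a ha
    simp only [mem_filter] at ha
    refine padicValNat.eq_zero_of_not_dvd fun h => ha.2 ?_
    have h' : p ^ 2 ∣ ℓ ^ (2 * a * p) - 1 := by
      rw [pow_mul]
      have hm : (ℓ ^ (2 * a)) ≡ 1 [MOD p] :=
        ((Nat.modEq_iff_dvd' (Nat.one_le_pow _ _ hℓ.pos)).2 h).symm
      have hi : ((p : ℤ) ^ (1 + 1)) ∣ (((ℓ : ℤ) ^ (2 * a)) ^ (p ^ 1) - 1 ^ (p ^ 1)) :=
        dvd_sub_pow_of_dvd_sub (by
          have := (Nat.modEq_iff_dvd.1 hm.symm)
          push_cast at this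
          exact this) 1
      rw [pow_one, one_pow] at hi
      have : ((p ^ 2 : ℕ) : ℤ) ∣ (((ℓ ^ (2 * a)) ^ p - 1 : ℕ) : ℤ) := by
        rw [Nat.cast_sub (Nat.one_le_pow _ _ (Nat.pow_pos hℓ.pos))]
        push_cast
        exact hi
      exact_mod_cast this
    have := (hord _).1 h'
    rw [mul_comm (2 * a)] at this
    exact Nat.dvd_of_mul_dvd_mul_left hp.pos this

theorem main (g B d : ℕ) (hB : 2 * g + 1 ≤ B) :
    (∀ ℓ : ℕ, ℓ.Prime → B < ℓ → d ∣ P g ℓ) ↔
      d ∣ 2 ^ (3 * g + padicValNat 2 g.factorial) *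
        ∏ p ∈ (Icc 3 (2 * g + 1)).filter Nat.Prime,
          p ^ ((2 * g) / (p - 1) + ∑ i ∈ Icc 1 ((2 * g) / (p - 1)), padicValNat p i) := by
  set S := insert 2 ((Icc 3 (2 * g + 1)).filter Nat.Prime)
  have hN : 2 ^ (3 * g + padicValNat 2 g.factorial) *
        ∏ p ∈ (Icc 3 (2 * g + 1)).filter Nat.Prime,
          p ^ ((2 * g) / (p - 1) + ∑ i ∈ Icc 1 ((2 * g) / (p - 1)), padicValNat p i) =
      ∏ p ∈ S, p ^ e g p := by
    rw [prod_insert (by simp), e, if_pos rfl]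
    refine congrArg _ (prod_congr rfl fun p hp => ?_)
    simp only [mem_filter, mem_Icc] at hp
    rw [e, if_neg (by omega)]
  rw [hN]
  have hS : ∀ p ∈ S, p.Prime := by
    intro p hp
    simp only [S, mem_insert, mem_filter] at hp
    rcases hp with rfl | h
    exacts [Nat.prime_two, h.2]
  have hne : ∏ p ∈ S, p ^ e g p ≠ 0 := prod_ne_zero_iff.2 fun p hp => pow_ne_zero _ (hS p hp).ne_zero
  have hval : ∀ p, p.Prime → (∏ q ∈ S, q ^ e g q).factorization p = e g p := by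
    intro p hp
    rw [Nat.factorization_prod_apply fun q hq => pow_ne_zero _ (hS q hq).ne_zero]
    rw [sum_eq_single p]
    · rw [hp.factorization_pow, Finsupp.single_eq_same]
    · intro q hq hqp
      rw [(hS q hq).factorization_pow, Finsupp.single_eq_of_ne (Ne.symm hqp)]
    · intro hpS
      rw [hp.factorization_pow, Finsupp.single_eq_same]
      have h2 : p ≠ 2 := fun h => hpS (by simp [S, h])
      have : 2 * g + 1 < p := by
        by_contra hc
        exact hpS (by simp only [S, mem_insert, mem_filter, mem_Icc]; right; exact ⟨⟨by have := hp.two_le; omega, by omega⟩, hp⟩)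
      have : 2 * g / (p - 1) = 0 := Nat.div_eq_of_lt (by omega)
      simp [e, h2, this]
  constructor
  · intro h
    obtain ⟨ℓ, hℓ, hℓB, -⟩ := exists_sharp g B 2 Nat.prime_two
    have hd : d ≠ 0 := fun h0 => P_ne_zero hℓ.one_lt (by simpa [h0] using h ℓ hℓ hℓB)
    rw [← Nat.factorization_le_iff_dvd hd hne]
    intro p
    by_cases hp : p.Prime
    · obtain ⟨ℓ, hℓ, hℓB, hv⟩ := exists_sharp g B p hp
      rw [hval p hp, ← hv, ← Nat.factorization_def _ hp]
      exact (Nat.factorization_le_iff_dvd hd (P_ne_zero hℓ.one_lt)).2 (h ℓ hℓ hℓB) p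
    · simp [Nat.factorization_eq_zero_of_not_prime _ hp]
  · intro h ℓ hℓ hℓB
    refine h.trans ((Nat.factorization_le_iff_dvd hne (P_ne_zero hℓ.one_lt)).1 fun p => ?_)
    by_cases hp : p.Prime
    · rw [hval p hp, Nat.factorization_def _ hp]
      exact e_le g B p ℓ hB hp hℓ hℓB
    · simp [Nat.factorization_eq_zero_of_not_prime _ hp]

theorem ker_pow_sub_one {K V : Type*} [Field K] [CharZero K] [AddCommGroup V] [Module K V]
    (g : Module.End K V) (hg : IsNilpotent (g - 1)) (n : ℕ) (hn : 0 < n) :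
    LinearMap.ker (g ^ n - 1) = LinearMap.ker (g - 1) := by
  have hu : IsUnit (∑ i ∈ range n, g ^ i) := by
    have h1 : ∀ i, ∃ c, g ^ i - 1 = (g - 1) * c ∧ Commute (g - 1) c := fun i =>
      ⟨∑ j ∈ range i, g ^ j, (mul_geom_sum g i).symm,
        Commute.sum_right _ _ _ fun j _ => ((Commute.refl g).sub_left (Commute.one_left g)).pow_right j⟩
    choose c hc hcomm using h1
    have h2 : ∑ i ∈ range n, g ^ i = (n : Module.End K V) + (g - 1) * ∑ i ∈ range n, c i := by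
      rw [mul_sum, ← sum_congr rfl fun i _ => hc i, sum_sub_distrib, sum_const, card_range,
        nsmul_eq_mul, mul_one, add_sub_cancel]
    rw [h2]
    refine IsNilpotent.isUnit_add_left_of_commute
      ((Commute.sum_right _ _ _ fun i _ => hcomm i).isNilpotent_mul_right hg) ?_
      (Nat.cast_commute n _).symm
    rw [← map_natCast (algebraMap K (Module.End K V))]
    exact (IsUnit.mk0 _ (Nat.cast_ne_zero.2 hn.ne')).map _
  obtain ⟨u, hu⟩ := hu
  have e1 : g ^ n - 1 = u.1 * (g - 1) := by rw [hu, geom_sum_mul]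
  ext v
  rw [LinearMap.mem_ker, LinearMap.mem_ker, e1, Module.End.mul_apply]
  refine ⟨fun h => ?_, fun h => by rw [h, map_zero]⟩
  have := congrArg (↑u⁻¹ : Module.End K V) h
  rwa [← Module.End.mul_apply, Units.inv_mul, Module.End.one_apply, map_zero] at this

theorem fixed_of_finiteIndex {K V G : Type*} [Field K] [CharZero K]
    [AddCommGroup V] [Module K V] [Group G] (ρ : G →* (V ≃ₗ[K] V))
    (hunip : ∀ g : G, IsNilpotent (((ρ g : V ≃ₗ[K] V) : Module.End K V) - 1))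
    (H : Subgroup G) [H.FiniteIndex] (v : V) (hv : ∀ h ∈ H, ρ h v = v) (g : G) :
    ρ g v = v := by
  obtain ⟨n, hn, -, hmem⟩ := Subgroup.exists_pow_mem_of_index_ne_zero (H := H) Subgroup.FiniteIndex.index_ne_zero g
  have h := hv _ hmem
  have e : ((ρ (g ^ n) : V ≃ₗ[K] V) : Module.End K V) = (ρ g : Module.End K V) ^ n :=
    map_pow ((LinearEquiv.automorphismGroup.toLinearMapMonoidHom).comp ρ) g n
  have hk : v ∈ LinearMap.ker ((ρ g : Module.End K V) ^ n - 1) := by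
    rw [LinearMap.mem_ker, ← e]
    simpa [sub_eq_zero] using h
  rw [ker_pow_sub_one _ (hunip g) n hn] at hk
  simpa [sub_eq_zero] using hk

end SSRedGcd
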